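import Groth.Agent.H29CurveDual.Canonical
import Groth.Agent.H29RR.PnPic
import Groth.Agent.H29RR.GenPoint
import Groth.Agent.H3CAlg.FormsDim
import Groth.Agent.H29DoubleCover.Connected
import Groth.Agent.H22Alg.RegSheaf
import Groth.Agent.H11Ample.Converse
import Groth.Agent.H10Coh.Stab.TwistInt

/-!
# The quadric through a canonical curve of genus four
-/

set_option autoImplicit false
set_option linter.style.haveILetI false

universe u

open CategoryTheory CategoryTheory.Limits AlgebraicGeometry TopologicalSpace Opposite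
open Groth.Agent.H29RR

noncomputable section

namespace Groth.Agent.H23Canon4

attribute [local instance 10000] H10Coh.hasSheafifyAb H10Coh.hasWeakSheafifyAb H10Coh.hasExtAb H10Coh.enoughInjAb

variable {k : Type u} [Field k] {X P : Scheme.{u}} [X.Over (Spec (CommRingCat.of k))]
  [P.Over (Spec (CommRingCat.of k))] (i : X ⟶ P)

/-- Pulling back global sections, linearly over the base field. -/
def pullLin (hi : i ≫ (P ↘ Spec (CommRingCat.of k)) = X ↘ Spec (CommRingCat.of k)) (M : P.Modules) :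
    Coh.HH P M 0 →ₗ[k] Coh.HH X ((Scheme.Modules.pullback i).obj M) 0 where
  toFun x := (H29RR.sec _).symm (OmegaSh.pullSect i M ⊤ (H29RR.sec M x))
  map_add' x y := by
    rw [map_add, map_add]
    exact map_add (H29RR.sec _).symm _ _
  map_smul' c x := by
    have hc : i.app ⊤ (H10Coh.globA (A := k) (X := P) c) = H10Coh.globA (A := k) (X := X) c := by
      show i.app ⊤ ((P ↘ Spec (CommRingCat.of k)).appTop ((Scheme.ΓSpecIso (CommRingCat.of k)).inv c)) =
        (X ↘ Spec (CommRingCat.of k)).appTop ((Scheme.ΓSpecIso (CommRingCat.of k)).inv c)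
      rw [← hi]
      rfl
    apply (H29RR.sec _).injective
    rw [AddEquiv.apply_symm_apply, RingHom.id_apply, H29RR.sec_smul, H29RR.sec_smul,
      AddEquiv.apply_symm_apply, OmegaSh.pullSect_smul, hc]
    rfl

theorem exists_pullSect_eq_zero
    (hi : i ≫ (P ↘ Spec (CommRingCat.of k)) = X ↘ Spec (CommRingCat.of k)) (M : P.Modules)
    [FiniteDimensional k (Coh.HH X ((Scheme.Modules.pullback i).obj M) 0)]
    (h : Module.finrank k (Coh.HH X ((Scheme.Modules.pullback i).obj M) 0) < Module.finrank k (Coh.HH P M 0)) :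
    ∃ Q : Γ(M, ⊤), Q ≠ 0 ∧ OmegaSh.pullSect i M ⊤ Q = 0 := by
  by_cases hinj : Function.Injective (pullLin i hi M)
  · exact absurd (LinearMap.finrank_le_finrank_of_injective hinj) (not_le.2 h)
  · obtain ⟨x, hx, hx0⟩ : ∃ x, pullLin i hi M x = 0 ∧ x ≠ 0 := by
      by_contra hne
      push Not at hne
      exact hinj ((injective_iff_map_eq_zero _).2 hne)
    refine ⟨H29RR.sec M x, fun h0 => hx0 ((H29RR.sec M).injective (h0.trans (map_zero _).symm)), ?_⟩
    exact (H29RR.sec _).symm.injective (hx.trans (map_zero _).symm)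

variable (k) in
/-- A canonical curve of genus four lies on a quadric. -/
theorem exists_quadric (X : Scheme.{u}) [X.Over (Spec (CommRingCat.of k))]
    [IsProper (X ↘ (Spec (CommRingCat.of k)))] [Smooth (X ↘ (Spec (CommRingCat.of k)))]
    [GeometricallyConnected (X ↘ (Spec (CommRingCat.of k)))]
    (hdim : topologicalKrullDim X = 1) (hg : Curv2.genus k X = 4)
    (i : X ⟶ CohB1.ProjSpace 3 k)
    (hi : i ≫ CohB1.ProjSpace.toSpec 3 k = X ↘ (Spec (CommRingCat.of k)))
    (hcan : Nonempty ((Scheme.Modules.pullback i).obj (Twist.twistProjSpace 3 k 1) ≅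
      Omega.sheaf (X ↘ (Spec (CommRingCat.of k))))) :
    ∃ Q : Γ(Twist.twistProjSpace 3 k 2, ⊤), Q ≠ 0 ∧
      OmegaSh.pullSect i (Twist.twistProjSpace 3 k 2) ⊤ Q = 0 := by
  haveI := H29DoubleCover.isIntegral_of_smooth_connected (X ↘ Spec (CommRingCat.of k))
  obtain ⟨c⟩ := hcan
  let O : ℤ → (CohB1.ProjSpace 3 k).Modules := fun d => Twist.twistProjSpace 3 k d
  have hinv : PicF.IsInvertible ((Scheme.Modules.pullback i).obj (O 2)) :=
    H11Ample.isInvertible_pullback i (H22Alg.RegSheaf.isInvertible_twistProjSpace 3 k 2)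
  have hΩ := H29CurveDual.isInvertible_omega_curve (k := k) (X := X) hdim
  obtain ⟨a⟩ := (H10Coh.Stab.isTwistFamily_projSpace 3 k).add 1 1
  let e : (Scheme.Modules.pullback i).obj (O 2) ≅
      CohB1.tensorMod (Omega.sheaf (X ↘ (Spec (CommRingCat.of k))))
        (Omega.sheaf (X ↘ (Spec (CommRingCat.of k)))) :=
    (Scheme.Modules.pullback i).mapIso a.symm ≪≫
      (H16Derived.KFlat.Stalk.pullTensorLIso i (O 1)).app (O 1) ≪≫ PicGrp.tensorModIso c c
  have h0 : Module.finrank k (Coh.HH X (Coh.structureModule X) 0) = 1 :=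
    H29DoubleCover.finrank_h0_structure (X ↘ Spec (CommRingCat.of k))
  have hdω := H29CurveDual.deg_omega_of_h0 (k := k) (X := X) hdim h0
  have hd : Curv2.deg k X ((Scheme.Modules.pullback i).obj (O 2)) 1 = 12 := by
    rw [H29RR.deg_congr (k := k) e, H29RR.deg_tensor (k := k) hdim.le hΩ hΩ, hdω, hg]
    norm_num
  haveI hs := H29CurveDual.subsingleton_h1_of_deg (k := k) hdim hinv (by rw [hd, hdω, hg]; norm_num)
  have hrr := H29RR.riemann_roch (k := k) hdim.le ((Scheme.Modules.pullback i).obj (O 2))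
  have hz : Module.finrank k (Coh.HH X ((Scheme.Modules.pullback i).obj (O 2)) 1) = 0 :=
    Module.finrank_zero_of_subsingleton
  rw [hd, hg, hz, h0] at hrr
  letI : (CohB1.ProjSpace 3 k).Over (Spec (CommRingCat.of k)) := ⟨CohB1.ProjSpace.toSpec 3 k⟩
  haveI := H29RR.finite_HH (k := k) ((Scheme.Modules.pullback i).obj (O 2)) hinv 0
  refine exists_pullSect_eq_zero (k := k) i hi (O 2) ?_
  have h10 : Module.finrank k (Coh.HH (CohB1.ProjSpace 3 k) (O 2) 0) = (2 + 3).choose 3 :=
    ((LinearEquiv.ofBijective _ (H10Coh.Pn.HH0Od_bijective (n := 3) (R := k) 2)).trans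
      (LinearEquiv.ofBijective _ (H10Coh.Pn.homToAllowed_bijective (n := 3) (R := k) 2)).symm).finrank_eq.trans
      (H3CAlg.finrank_homogeneous 3 2).2
  rw [h10]
  show _ < 10
  omega

end Groth.Agent.H23Canon4
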